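import Groth.Prelude.Def_W4stkdualitygroupp2Univ
import Groth.Agent.S8974
import Mathlib

/-! # The universal algebra of `n` equations in `n` variables -/

open MvPolynomial

namespace GrothLib.UnivAlg4

open Synt

variable (n d : ℕ)

/-- The index of the constant term. -/
def E0 : UnivIdx n d := ⟨fun _ => 0, by simp⟩

theorem exponent_E0 : (E0 n d).exponent = 0 := by
  ext i
  rfl

/-- The variables left after eliminating the constant terms. -/
abbrev Rest : Type := {p : Fin n × UnivIdx n d // p.2 ≠ E0 n d} ⊕ Fin n

/-- The value of the constant term. -/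
noncomputable def cval (i : Fin n) : MvPolynomial (Rest n d) ℤ :=
  -∑ E : {E : UnivIdx n d // E ≠ E0 n d},
    X (Sum.inl ⟨(i, E.1), E.2⟩) * ∏ j, X (Sum.inr j) ^ E.1.exponent j

open Classical in
/-- Elimination of the constant terms. -/
noncomputable def elim : MvPolynomial (Fin n) (UnivBase n d) →+* MvPolynomial (Rest n d) ℤ :=
  eval₂Hom (eval₂Hom (Int.castRingHom _) fun p => if h : p.2 = E0 n d then cval n d p.1 else X (Sum.inl ⟨p, h⟩))
    fun j => X (Sum.inr j)

/-- The section of the elimination. -/
noncomputable def back : MvPolynomial (Rest n d) ℤ →+* MvPolynomial (Fin n) (UnivBase n d) :=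
  eval₂Hom (Int.castRingHom _) (Sum.elim (fun p => C (X p.1)) X)

theorem back_X (s : Rest n d) : back n d (X s) = Sum.elim (fun p => C (X p.1)) X s := eval₂Hom_X' _ _ _

theorem elim_C_X (p : Fin n × UnivIdx n d) :
    elim n d (C (X p)) = if h : p.2 = E0 n d then cval n d p.1 else X (Sum.inl ⟨p, h⟩) := by
  classical
  simp [elim]

theorem elim_X (j : Fin n) : elim n d (X j) = X (Sum.inr j) := eval₂Hom_X' _ _ _

theorem univPoly_eq (i : Fin n) :
    univPoly n d i = C (X (i, E0 n d)) + ∑ E : {E : UnivIdx n d // E ≠ E0 n d},
      C (X (i, E.1)) * ∏ j, X j ^ E.1.exponent j := by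
  classical
  rw [univPoly, Fintype.sum_eq_add_sum_subtype_ne _ (E0 n d)]
  refine congrArg₂ _ ?_ (Finset.sum_congr rfl fun E _ => ?_)
  · rw [exponent_E0]; rfl
  · rw [monomial_eq, Finsupp.prod_fintype _ _ fun _ => pow_zero _]

theorem elim_back : (elim n d).comp (back n d) = RingHom.id _ := by
  refine MvPolynomial.ringHom_ext (fun m => by simp [back, elim]) fun s => ?_
  rw [RingHom.comp_apply, back_X]
  rcases s with p | j
  · simp [elim_C_X, p.2]
  · simp [elim_X]

theorem elim_univPoly (i : Fin n) : elim n d (univPoly n d i) = 0 := by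
  rw [univPoly_eq, map_add, map_sum, elim_C_X, dif_pos rfl, cval, neg_add_eq_sub, sub_eq_zero]
  refine Finset.sum_congr rfl fun E _ => ?_
  simp [elim_C_X, E.2, elim_X]

/-- The universal algebra is a polynomial ring over `ℤ`. -/
theorem exists_equiv : Nonempty (MvPolynomial (Rest n d) ℤ ≃+* UnivAlg n d) := by
  let π : MvPolynomial (Fin n) (UnivBase n d) →+* MvPolynomial (Fin n) (UnivBase n d) ⧸ univIdeal n d :=
    Ideal.Quotient.mk _
  have hker : ∀ F ∈ univIdeal n d, elim n d F = 0 := fun F hF =>
    (Ideal.span_le.2 (show Set.range (univPoly n d) ⊆ (RingHom.ker (elim n d) : Set _) from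
      Set.range_subset_iff.2 (elim_univPoly n d)) : univIdeal n d ≤ _) hF
  have hπ : (π.comp (back n d)).comp (elim n d) = π := by
    refine MvPolynomial.ringHom_ext (fun a => ?_) fun j => ?_
    · induction a using MvPolynomial.induction_on with
      | C m => simp [back, elim]
      | add a b ha hb => simp only [map_add, ha, hb]
      | mul_X a p ha =>
        rw [map_mul, map_mul, map_mul, ha]
        refine congrArg _ ?_
        rw [RingHom.comp_apply, RingHom.comp_apply, elim_C_X]
        split_ifs with h
        · have hc : back n d (cval n d p.1) = C (X p) - univPoly n d p.1 := by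
            rw [univPoly_eq, show (p.1, E0 n d) = p from Prod.ext rfl h.symm, sub_add_cancel_left, cval, map_neg, map_sum]
            refine congrArg _ (Finset.sum_congr rfl fun E _ => ?_)
            simp [back_X]
          rw [hc, map_sub, show π (univPoly n d p.1) = 0 from
            Ideal.Quotient.eq_zero_iff_mem.2 (Ideal.subset_span ⟨p.1, rfl⟩), sub_zero]
        · rw [back_X]; rfl
    · simp [elim_X, back_X]
  let toC : MvPolynomial (Fin n) (UnivBase n d) ⧸ univIdeal n d →+* MvPolynomial (Rest n d) ℤ :=
    Ideal.Quotient.lift _ (elim n d) hker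
  exact ⟨RingEquiv.ofRingHom (π.comp (back n d)) toC
    (Ideal.Quotient.ringHom_ext (RingHom.ext fun F => RingHom.congr_fun hπ F))
    (RingHom.ext fun c => RingHom.congr_fun (elim_back n d) c)⟩

instance : Finite (Rest n d) := inferInstance

theorem isDomain_and_regular :
    IsDomain (UnivAlg n d) ∧ ∀ q : PrimeSpectrum (UnivAlg n d), IsRegularLocalRing (Localization.AtPrime q.asIdeal) := by
  obtain ⟨e⟩ := exists_equiv n d
  haveI : IsRegularRing (UnivAlg n d) := IsRegularRing.of_ringEquiv e
  exact ⟨MulEquiv.isDomain (MvPolynomial (Rest n d) ℤ) e.symm.toMulEquiv,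
    fun q => IsRegularRing.isRegularLocalRing_localization q.asIdeal⟩

/-- A point where the Jacobian does not vanish is étale and quasi-finite. -/
theorem etale_quasiFinite_of_jacobian {A B : Type} [CommRing A] [CommRing B] [Algebra A B]
    [Algebra.FinitePresentation A B] {σ : Type} [Finite σ]
    (P : Algebra.PreSubmersivePresentation A B σ σ) {K : Type} [Field K] (ev : B →+* K) (hjac : ev P.jacobian ≠ 0) :
    ∃ q : PrimeSpectrum B, Algebra.QuasiFiniteAt A q.asIdeal ∧ Algebra.IsEtaleAt A q.asIdeal := by
  let g := P.jacobian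
  let Bg := Localization.Away g
  let Q := Algebra.PreSubmersivePresentation.localizationAway Bg g
  let PQ : Algebra.SubmersivePresentation A Bg (Unit ⊕ σ) (Unit ⊕ σ) :=
    { Q.comp P with
      jacobian_isUnit := by
        show IsUnit (Q.comp P).jacobian
        rw [Algebra.PreSubmersivePresentation.comp_jacobian_eq_jacobian_smul_jacobian, Algebra.smul_def,
          Algebra.PreSubmersivePresentation.localizationAway_jacobian]
        exact (IsLocalization.Away.algebraMap_isUnit g).mul (IsLocalization.Away.algebraMap_isUnit g) }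
  haveI : Algebra.IsStandardSmoothOfRelativeDimension 0 A Bg :=
    PQ.isStandardSmoothOfRelativeDimension (by simp [Algebra.Presentation.dimension])
  haveI : Algebra.Etale A Bg := inferInstance
  haveI : (RingHom.ker ev).IsPrime := RingHom.ker_isPrime ev
  have hg : g ∉ RingHom.ker ev := hjac
  refine ⟨⟨RingHom.ker ev, inferInstance⟩, ?_, ?_⟩
  · haveI : Algebra.QuasiFinite A Bg := inferInstance
    let L := Localization.AtPrime (RingHom.ker ev)
    letI : Algebra Bg L := (IsLocalization.Away.lift g (S := Bg) (g := algebraMap B L)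
      (IsLocalization.map_units L (⟨g, hg⟩ : (RingHom.ker ev).primeCompl))).toAlgebra
    haveI : IsScalarTower B Bg L := IsScalarTower.of_algebraMap_eq fun b => (IsLocalization.Away.lift_eq g _ b).symm
    haveI : IsScalarTower A Bg L := IsScalarTower.of_algebraMap_eq fun a => by
      rw [IsScalarTower.algebraMap_apply A B L, IsScalarTower.algebraMap_apply A B Bg,
        ← IsScalarTower.algebraMap_apply B Bg L]
    haveI : IsLocalization ((RingHom.ker ev).primeCompl.map (algebraMap B Bg)) L :=
      IsLocalization.isLocalization_of_submonoid_le Bg L (Submonoid.powers g) (RingHom.ker ev).primeCompl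
        (Submonoid.powers_le.2 hg)
    exact Algebra.QuasiFinite.of_isLocalization (S := Bg) ((RingHom.ker ev).primeCompl.map (algebraMap B Bg))
  · exact (Algebra.basicOpen_subset_etaleLocus_iff (R := A) (f := g)).mpr inferInstance hg

theorem exists_etale_quasiFinite (hn : 1 ≤ n) (hd : 1 ≤ d) :
    ∃ q : PrimeSpectrum (UnivAlg n d),
      Algebra.QuasiFiniteAt (UnivBase n d) q.asIdeal ∧ Algebra.IsEtaleAt (UnivBase n d) q.asIdeal := by
  classical
  obtain ⟨φ, hφ⟩ := Groth.Agent.S8974.result ℚ n d hn hd (fun i => X i) fun i => by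
    rw [MvPolynomial.totalDegree_X]; exact hd
  let B₀ := MvPolynomial (Fin n) (UnivBase n d) ⧸ Ideal.span (Set.range (univPoly n d))
  let P : Algebra.PreSubmersivePresentation (UnivBase n d) B₀ (Fin n) (Fin n) :=
    Algebra.PreSubmersivePresentation.naive (v := univPoly n d) _root_.id Function.injective_id
  let ev : MvPolynomial (Fin n) (UnivBase n d) →+* ℚ := eval₂Hom φ fun _ => 0
  have hev : ∀ F, ev F = constantCoeff (MvPolynomial.map φ F) := fun F => by
    induction F using MvPolynomial.induction_on with
    | C a => simp [ev]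
    | add a b ha hb => simp only [map_add, ha, hb]
    | mul_X a j ha => simp only [map_mul, ha]; simp [ev]
  have hker : ∀ F ∈ Ideal.span (Set.range (univPoly n d)), ev F = 0 := fun F hF =>
    (Ideal.span_le.2 (show Set.range (univPoly n d) ⊆ (RingHom.ker ev : Set _) from
      Set.range_subset_iff.2 fun i => by
        rw [SetLike.mem_coe, RingHom.mem_ker, hev, hφ]; simp) : Ideal.span _ ≤ _) hF
  let evB : B₀ →+* ℚ := Ideal.Quotient.lift _ ev hker
  have hjac : evB P.jacobian = 1 := by
    rw [P.jacobian_eq_jacobiMatrix_det]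
    have h1 : ∀ F : P.Ring, evB (algebraMap P.Ring B₀ F) = ev F := fun F => by
      rw [P.toGenerators.algebraMap_apply]
      have hx : ∀ i, evB (P.val i) = 0 := fun i => by
        show ev (X i) = 0
        simp [ev]
      induction F using MvPolynomial.induction_on with
      | C a => rw [MvPolynomial.aeval_C]; rfl
      | add a b ha hb => simp only [map_add, ha, hb]
      | mul_X a j ha =>
        rw [map_mul, map_mul, MvPolynomial.aeval_X, hx, mul_zero, map_mul]
        simp [ev]
    rw [h1, RingHom.map_det]
    convert Matrix.det_one (n := Fin n) (R := ℚ)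
    ext i j
    rw [RingHom.mapMatrix_apply, Matrix.map_apply, Algebra.PreSubmersivePresentation.jacobiMatrix_naive, hev,
      ← MvPolynomial.pderiv_map, hφ, MvPolynomial.pderiv_X, Matrix.one_apply]
    rcases eq_or_ne i j with rfl | h
    · simp
    · simp [h, Pi.single_eq_of_ne h]
  haveI : Algebra.FinitePresentation (UnivBase n d) B₀ :=
    Algebra.FinitePresentation.quotient (Submodule.fg_span (Set.finite_range _))
  have h := etale_quasiFinite_of_jacobian (B := B₀) P evB (by rw [hjac]; exact one_ne_zero)
  exact h

end GrothLib.UnivAlg4
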