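import Groth.Agent.Lib.RelGCIReg.Conormal
import Groth.Agent.Lib.LCI6.Syntomic
import Mathlib

/-! # The conormal module on the syntomic locus -/

universe u

open MvPolynomial

namespace GrothLib.UnivAlg4

theorem projective_cotangent_away {R : Type u} [CommRing R] {n : ℕ} (J : Ideal (MvPolynomial (Fin n) R))
    (g : MvPolynomial (Fin n) R ⧸ J) (h : Synt.IsSyntomic R (Localization.Away g)) :
    Module.Projective (Localization.Away g) (LocalizedModule (Submonoid.powers g) J.Cotangent) := by
  let P := MvPolynomial (Fin n) R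
  let S := P ⧸ J
  let Sg := Localization.Away g
  let ι := LocalizedModule.mkLinearMap (Submonoid.powers g) J.Cotangent
  refine RelGCIReg.projective_of_local_basis fun M hM => ?_
  haveI := hM.isPrime
  let q : Ideal S := M.comap (algebraMap S Sg)
  have hgq : g ∉ q := fun hg => hM.ne_top (Ideal.eq_top_of_isUnit_mem _ hg (IsLocalization.Away.algebraMap_isUnit g))
  have hlci := (LCI6.isSyntomic_iff.mp h).2
  have hk := LCI6.kRegAt_of_isLCI_away (Ideal.Quotient.mkₐ R J) Ideal.Quotient.mk_surjective g Sg hlci q hgq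
  change LCI6.KRegAt (RingHom.ker (Ideal.Quotient.mk J)) (q.comap (Ideal.Quotient.mk J)) at hk
  rw [Ideal.mk_ker] at hk
  obtain ⟨a, r, x, ha, hxJ, hx, hgen⟩ := hk.exists_fin
  let Pa := Localization.Away a
  let xa : Fin r → Pa := fun i => algebraMap P Pa (x i)
  let v : Fin r → J.Cotangent := fun i => J.toCotangent ⟨x i, hxJ i⟩
  let l : (Fin r → S) →ₗ[S] J.Cotangent := Fintype.linearCombination S v
  have hlker : ∀ w, l w = 0 → ∃ k : ℕ, Ideal.Quotient.mk J a ^ k • w = 0 := fun w hw => by
    choose b hb using fun i => Ideal.Quotient.mk_surjective (w i)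
    have hsum : J.toCotangent (∑ i, b i • (⟨x i, hxJ i⟩ : J)) = 0 := by
      rw [map_sum, ← hw, show l w = ∑ i, w i • v i from Fintype.linearCombination_apply _ _ _]
      refine Finset.sum_congr rfl fun i _ => ?_
      rw [map_smul, ← hb i]
      rfl
    rw [Ideal.toCotangent_eq_zero, AddSubmonoidClass.coe_finsetSum, pow_two] at hsum
    have hsum' : ∑ i, b i * x i ∈ J * J := by simpa using hsum
    have hg' := Ideal.mem_map_of_mem (algebraMap P Pa) hsum'
    rw [Ideal.map_mul, map_sum, hgen] at hg'
    simp only [map_mul] at hg'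
    have hb' : ∀ i, algebraMap P Pa (b i) ∈ J.map (algebraMap P Pa) := fun i => by
      rw [hgen]
      exact RelGCIReg.mem_of_sum_mul_mem_sq xa (LCI6.isH1Regular_ofFn xa hx) _ hg' i
    have hpow : ∀ i, ∃ k : ℕ, a ^ k * b i ∈ J := fun i => by
      obtain ⟨_, ⟨k, rfl⟩, hk⟩ :=
        (IsLocalization.algebraMap_mem_map_algebraMap_iff (Submonoid.powers a) Pa J (b i)).mp (hb' i)
      exact ⟨k, hk⟩
    choose k hk using hpow
    refine ⟨∑ i, k i, funext fun i => ?_⟩
    rw [Pi.smul_apply, smul_eq_mul, ← hb i, ← map_pow, ← map_mul]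
    refine Ideal.Quotient.eq_zero_iff_mem.mpr ?_
    rw [← Finset.add_sum_erase Finset.univ k (Finset.mem_univ i), pow_add, mul_right_comm]
    exact Ideal.mul_mem_right _ _ (hk i)
  have hlsurj : ∀ y, ∃ (k : ℕ) (b : Fin r → S), l b = Ideal.Quotient.mk J a ^ k • y := fun y => by
    obtain ⟨⟨z, hz⟩, rfl⟩ := J.toCotangent_surjective y
    have hz' : algebraMap P Pa z ∈ (Ideal.span (Set.range x)).map (algebraMap P Pa) := by
      rw [Ideal.map_span, ← Set.range_comp]
      exact hgen ▸ Ideal.mem_map_of_mem _ hz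
    obtain ⟨_, ⟨k, rfl⟩, hk⟩ :=
      (IsLocalization.algebraMap_mem_map_algebraMap_iff (Submonoid.powers a) Pa _ z).mp hz'
    obtain ⟨b, hb⟩ := Ideal.mem_span_range_iff_exists_fun.mp hk
    refine ⟨k, fun i => Ideal.Quotient.mk J (b i), ?_⟩
    show Fintype.linearCombination S v _ = _
    rw [Fintype.linearCombination_apply, ← map_pow]
    calc ∑ i, Ideal.Quotient.mk J (b i) • v i
        = J.toCotangent (∑ i, b i • (⟨x i, hxJ i⟩ : J)) := by
          rw [map_sum]
          exact Finset.sum_congr rfl fun i _ => by rw [map_smul]; rfl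
      _ = J.toCotangent (a ^ k • (⟨z, hz⟩ : J)) := by
          congr 1
          apply Subtype.ext
          simpa using hb
      _ = Ideal.Quotient.mk J (a ^ k) • J.toCotangent ⟨z, hz⟩ := by rw [map_smul]; rfl
  let a' : Sg := algebraMap S Sg (Ideal.Quotient.mk J a)
  let l' : (Fin r → Sg) →ₗ[Sg] LocalizedModule (Submonoid.powers g) J.Cotangent :=
    Fintype.linearCombination Sg fun i => ι (v i)
  have hl' : ∀ b : Fin r → S, l' (fun i => algebraMap S Sg (b i)) = ι (l b) := fun b => by
    show Fintype.linearCombination Sg _ _ = ι (Fintype.linearCombination S v b)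
    rw [Fintype.linearCombination_apply, Fintype.linearCombination_apply, map_sum]
    exact Finset.sum_congr rfl fun i _ => by rw [algebraMap_smul, map_smul]
  refine ⟨a', r, l', ha, fun w hw => ?_, fun y => ?_⟩
  · obtain ⟨⟨s, hs⟩, hb⟩ := IsLocalization.exist_integer_multiples_of_finite (Submonoid.powers g) w
    choose b hb using hb
    have hu : IsUnit (algebraMap S Sg s) := IsLocalization.map_units Sg (⟨s, hs⟩ : Submonoid.powers g)
    have hbw : (fun i => algebraMap S Sg (b i)) = algebraMap S Sg s • w := funext fun i => by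
      rw [hb i, Pi.smul_apply, algebraMap_smul]
    have h0 : ι (l b) = 0 := by rw [← hl', hbw, map_smul, hw, smul_zero]
    obtain ⟨⟨_, t, rfl⟩, ht⟩ := (IsLocalizedModule.eq_zero_iff (Submonoid.powers g) ι).1 h0
    rw [Submonoid.smul_def, ← map_smul] at ht
    obtain ⟨k, hk⟩ := hlker _ ht
    refine ⟨k, funext fun i => ?_⟩
    have hki := congrArg (algebraMap S Sg) (congr_fun hk i)
    simp only [Pi.smul_apply, smul_eq_mul, Pi.zero_apply, map_mul, map_zero, map_pow] at hki
    rw [hb i, Algebra.smul_def] at hki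
    rw [Pi.smul_apply, Pi.zero_apply, smul_eq_mul]
    refine ((((IsLocalization.Away.algebraMap_isUnit g).pow t).mul hu).mul_right_eq_zero).1 ?_
    rw [← hki]; ring
  · induction y using LocalizedModule.induction_on with
    | h z s =>
      obtain ⟨k, b, hb⟩ := hlsurj z
      have hu : IsUnit (algebraMap S Sg s.1) := IsLocalization.map_units Sg s
      obtain ⟨c, hc⟩ := hu.exists_left_inv
      refine ⟨k, ⟨c • fun i => algebraMap S Sg (b i), ?_⟩⟩
      rw [map_smul, hl', hb, map_smul]
      have hz : ι z = algebraMap S Sg s.1 • LocalizedModule.mk z s := by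
        rw [algebraMap_smul, LocalizedModule.smul'_mk]
        exact (LocalizedModule.mk_cancel s z).symm
      rw [hz, ← algebraMap_smul Sg (Ideal.Quotient.mk J a ^ k), map_pow, smul_smul, smul_smul,
        mul_right_comm, hc, one_mul]

end GrothLib.UnivAlg4
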